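import Cfsg.Agent.Lib.Vanishing.Tools
import Cfsg.Agent.Lib.Hall.Basic
import Cfsg.Prelude.Def_Characters
import Mathlib.FieldTheory.Finite.Basic
import Mathlib.GroupTheory.Solvable
import Mathlib.GroupTheory.Sylow
import Mathlib.GroupTheory.Schreier

/-!
# Vanishing `p`-singular elements of solvable groups

If the vanishing `p`-singular elements of a finite solvable group all have the same order, then a
Sylow `p`-subgroup of `G / O_p(G)` has order at most `p`.
-/

set_option autoImplicit false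

open Module Subgroup

namespace Cfsg.Agent.Lib.Vanishing

open Cfsg.Agent.Lib.Char

universe u

variable {X : Type u} [Group X]

/-- `x` is a zero of some irreducible character. -/
def Van (x : X) : Prop := ∃ χ : IrrCharacter X, (χ : X → ℂ) x = 0

/-- `x` has `p`-power order. -/
def IsPEl (p : ℕ) (x : X) : Prop := ∃ k : ℕ, x ^ p ^ k = 1

/-- The two consequences, inherited by quotients, of all vanishing `p`-singular elements having one
order. -/
def Good (p : ℕ) (X : Type u) [Group X] : Prop :=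
  (∀ a b : X, Van a → Van b → IsPEl p a → a ≠ 1 → p ∣ orderOf b → IsPEl p b) ∧
  (∀ a : X, Van a → Van (a ^ p) → IsPEl p a → a ^ p = 1)

theorem van_of_quotient [Finite X] (N : Subgroup X) [N.Normal] {x : X} (h : Van (x : X ⧸ N)) :
    Van x := by
  obtain ⟨ψ, hψ⟩ := h
  exact ⟨(inflateEquiv N ψ).1, by rw [inflateEquiv_apply, hψ]⟩

theorem exists_decomp [Finite X] {p : ℕ} (hp : p.Prime) (x : X) :
    ∃ m : ℕ, ¬ p ∣ m ∧ IsPEl p (x ^ m) ∧ ∃ k, orderOf x = p ^ k * m := by
  obtain ⟨k, m, hm, hkm⟩ := Nat.exists_eq_pow_mul_and_not_dvd (orderOf_pos x).ne' p hp.ne_one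
  exact ⟨m, hm, ⟨k, by rw [← pow_mul, mul_comm, ← hkm, pow_orderOf_eq_one]⟩, k, hkm⟩

theorem exists_lift [Finite X] {p : ℕ} (hp : p.Prime) (N : Subgroup X) [N.Normal] {a : X ⧸ N}
    (ha : IsPEl p a) : ∃ x : X, (x : X ⧸ N) = a ∧ IsPEl p x := by
  obtain ⟨g, rfl⟩ := QuotientGroup.mk_surjective a
  obtain ⟨k, hk⟩ := ha
  obtain ⟨m, hm, hgm, -⟩ := exists_decomp hp g
  obtain ⟨j, hj⟩ := exists_pow_eq_self_of_coprime (x := (g : X ⧸ N)) (n := m)
    (((hp.coprime_iff_not_dvd.2 hm).pow_left k).symm.coprime_dvd_right (orderOf_dvd_of_pow_eq_one hk))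
  refine ⟨(g ^ m) ^ j, by rw [QuotientGroup.mk_pow, QuotientGroup.mk_pow, hj], ?_⟩
  obtain ⟨i, hi⟩ := hgm
  exact ⟨i, by rw [← pow_mul (g ^ m), mul_comm, pow_mul, hi, one_pow]⟩

theorem good_quotient [Finite X] {p : ℕ} (hp : p.Prime) (N : Subgroup X) [N.Normal]
    (h : Good p X) : Good p (X ⧸ N) := by
  refine ⟨fun a b ha hb hpa ha1 hdb => ?_, fun a ha hap hpa => ?_⟩
  · obtain ⟨x, rfl, hx⟩ := exists_lift hp N hpa
    obtain ⟨y, rfl⟩ := QuotientGroup.mk_surjective b
    obtain ⟨k, hk⟩ := h.1 x y (van_of_quotient N ha) (van_of_quotient N hb) hx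
      (fun e => ha1 (by simp [e]))
      (hdb.trans (orderOf_map_dvd (QuotientGroup.mk' N) y))
    exact ⟨k, by rw [← QuotientGroup.mk_pow, hk]; rfl⟩
  · obtain ⟨x, rfl, hx⟩ := exists_lift hp N hpa
    rw [← QuotientGroup.mk_pow] at hap ⊢
    rw [h.2 x (van_of_quotient N ha) (van_of_quotient N hap) hx]; rfl

/-- A commuting pair of a `p`-element and a `p'`-element gives a contradiction. -/
theorem Good.eq_one_of_commute {p : ℕ} [Finite X] (hp : p.Prime) (h : Good p X) {u w : X}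
    (hu : IsPEl p u) (hu1 : u ≠ 1) (hvu : Van u) (hw : (orderOf w).Coprime p)
    (hc : Commute w u) (hvw : Van (w * u)) : w = 1 := by
  obtain ⟨k, hk⟩ := hu
  obtain ⟨j, -, hj⟩ := (Nat.dvd_prime_pow hp).mp (orderOf_dvd_of_pow_eq_one hk)
  have ho : orderOf (w * u) = orderOf w * orderOf u :=
    hc.orderOf_mul_eq_mul_orderOf_of_coprime (by rw [hj]; exact hw.pow_right j)
  have hd : p ∣ orderOf (w * u) := by
    rw [ho, hj]
    refine dvd_mul_of_dvd_right (dvd_pow_self p fun h0 => hu1 ?_) _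
    rw [← orderOf_eq_one_iff, hj, h0, pow_zero]
  obtain ⟨i, hi⟩ := h.1 u (w * u) hvu hvw ⟨k, hk⟩ hu1 hd
  have h1 : orderOf w ∣ p ^ i :=
    (Dvd.intro _ ho.symm).trans (orderOf_dvd_of_pow_eq_one hi)
  exact orderOf_eq_one_iff.mp (Nat.eq_one_of_dvd_coprimes (hw.pow_right i) dvd_rfl h1)

theorem exists_normal_commutative [Finite X] [Group.IsSolvable X] [Nontrivial X] :
    ∃ V : Subgroup X, V.Normal ∧ V ≠ ⊥ ∧ ∀ a ∈ V, ∀ b ∈ V, a * b = b * a := by
  classical
  have h := (Group.isSolvable_def (G := X)).1 inferInstance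
  obtain ⟨m, hm⟩ : ∃ m, Nat.find h = m + 1 := by
    refine Nat.exists_eq_succ_of_ne_zero fun h0 => ?_
    have := Nat.find_spec h
    rw [h0, derivedSeries_zero] at this
    exact top_ne_bot this
  refine ⟨derivedSeries X m, inferInstance, Nat.find_min h (by omega), fun a ha b hb => ?_⟩
  have := Nat.find_spec h
  rw [hm, derivedSeries_succ, commutator_eq_bot_iff_le_centralizer] at this
  exact (mem_centralizer_iff.mp (this ha) b hb).symm

theorem conjNormal_apply_eq_self {V : Subgroup X} [V.Normal] {h : X} {d : V}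
    (hd : MulAut.conjNormal h d = d) : Commute (d : X) h := by
  have := congrArg Subtype.val hd
  simp only [MulAut.conjNormal_apply] at this
  exact (mul_inv_eq_iff_eq_mul.mp this).symm

/-- The main step: a solvable group with `O_p = 1` and an abelian normal subgroup `V` such that
`O_p(X / V) ≠ 1`. -/
theorem sq_not_dvd_of_core [Finite X] {p : ℕ} [hp : Fact p.Prime] (h : Good p X)
    (hO : Cfsg.pCore p X = ⊥) (V : Subgroup X) [hVn : V.Normal] (hVbot : V ≠ ⊥)
    (hV : ∀ a ∈ V, ∀ b ∈ V, a * b = b * a) (hVp : ¬ p ∣ Nat.card V)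
    (hK : Cfsg.pCore p (X ⧸ V) ≠ ⊥) : ¬ p ^ 2 ∣ Nat.card X := by
  classical
  haveI := Fintype.ofFinite X
  set π := QuotientGroup.mk' V with hπ
  have hkill : ∀ w ∈ V, π w = 1 := fun w hw => (QuotientGroup.eq_one_iff w).mpr hw
  have hVel : ∀ w ∈ V, IsPEl p w → w = 1 := by
    rintro w hw ⟨k, hk⟩
    exact orderOf_eq_one_iff.mp (Nat.eq_one_of_dvd_coprimes
      ((hp.out.coprime_iff_not_dvd.mpr hVp).symm.pow_right k) (orderOf_dvd_natCard V hw)
      (orderOf_dvd_of_pow_eq_one hk))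
  have hVord : ∀ w ∈ V, (orderOf w).Coprime p := fun w hw =>
    (hp.out.coprime_iff_not_dvd.mpr hVp).symm.coprime_dvd_left (orderOf_dvd_natCard V hw)
  -- the preimage `M` of `O_p(X/V)` and its Sylow subgroup `S`
  haveI : (Cfsg.pCore p (X ⧸ V)).Normal := Hall.pCore_normal p
  set M := (Cfsg.pCore p (X ⧸ V)).comap π with hM
  haveI hMn : M.Normal := Subgroup.Normal.comap inferInstance π
  have S₀ : Sylow p M := Classical.arbitrary _
  set S : Subgroup X := (S₀ : Subgroup M).map M.subtype with hS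
  have hSp : IsPGroup p S := S₀.2.map _
  have hSM : S ≤ M := map_subtype_le _
  have hSel : ∀ s ∈ S, IsPEl p s := fun s hs => by
    obtain ⟨k, hk⟩ := hSp ⟨s, hs⟩
    exact ⟨k, congrArg Subtype.val hk⟩
  have hSmap : S.map π = Cfsg.pCore p (X ⧸ V) := by
    let g : M →* Cfsg.pCore p (X ⧸ V) := π.subgroupComap _
    have hg : Function.Surjective g :=
      MonoidHom.subgroupComap_surjective_of_surjective π _ (QuotientGroup.mk'_surjective V)
    have htop : ((S₀.mapSurjective hg : Sylow p _) : Subgroup (Cfsg.pCore p (X ⧸ V))) = ⊤ :=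
      ((S₀.mapSurjective hg).3 (Q := ⊤) ((Hall.isPGroup_pCore p).to_subgroup _) le_top).symm
    apply le_antisymm
    · exact (map_mono hSM).trans (map_comap_le _ _)
    · intro c hc
      have h1 : (⟨c, hc⟩ : Cfsg.pCore p (X ⧸ V)) ∈
          ((S₀.mapSurjective hg : Sylow p _) : Subgroup (Cfsg.pCore p (X ⧸ V))) := by
        rw [htop]; exact mem_top _
      obtain ⟨m, hm, hme⟩ := h1
      exact ⟨m, mem_map_of_mem _ hm, congrArg Subtype.val hme⟩
  have hinjS : ∀ s ∈ S, ∀ t ∈ S, π s = π t → s = t := fun s hs t ht e =>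
    mul_inv_eq_one.mp (hVel _ ((QuotientGroup.eq_one_iff _).mp (by
      show π (s * t⁻¹) = 1
      rw [map_mul, map_inv, e, mul_inv_cancel])) (hSel _ (S.mul_mem hs (S.inv_mem ht))))
  have hMdec : ∀ m ∈ M, ∃ w ∈ V, ∃ s ∈ S, m = w * s := fun m hm => by
    obtain ⟨s, hs, hse⟩ := (show π m ∈ S.map π from hSmap ▸ hm)
    refine ⟨m * s⁻¹, (QuotientGroup.eq_one_iff _).mp ?_, s, hs, by group⟩
    show π (m * s⁻¹) = 1
    rw [map_mul, map_inv, hse, mul_inv_cancel]
  -- Frattini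
  have hX : ∀ x : X, ∃ w ∈ V, ∃ n ∈ normalizer (S : Set X), x = w * n := by
    intro x
    have htop : M ⊔ normalizer (S : Set X) = ⊤ := sup_comm _ M ▸ Sylow.normalizer_sup_eq_top S₀
    have hx : x ∈ M ⊔ normalizer (S : Set X) := htop ▸ mem_top x
    obtain ⟨m, hm, n, hn, rfl⟩ := Subgroup.mem_sup_of_normal_left.mp hx
    obtain ⟨w, hw, s, hs, rfl⟩ := hMdec m hm
    exact ⟨w, hw, s * n, mul_mem (le_normalizer hs) hn, mul_assoc _ _ _⟩
  have hnS : ∀ n ∈ normalizer (S : Set X), ∀ s ∈ S, n * s * n⁻¹ ∈ S := fun n hn s hs =>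
    (Subgroup.mem_normalizer_iff.mp hn s).mp hs
  -- `S` is faithful on `V`
  have hfaith : ∀ s ∈ S, (∀ w ∈ V, s * w = w * s) → s = 1 := by
    let K : Subgroup X := S ⊓ centralizer (V : Set X)
    haveI : K.Normal := ⟨fun k hk x => by
      obtain ⟨w, hw, n, hn, rfl⟩ := hX x
      have h1 : n * k * n⁻¹ ∈ K := ⟨hnS n hn k hk.1, by
        refine mem_centralizer_iff.mpr fun v hv => ?_
        have hv' : n⁻¹ * v * n ∈ V := by simpa using hVn.conj_mem v hv n⁻¹
        have h2 : (n⁻¹ * v * n) * k = k * (n⁻¹ * v * n) := mem_centralizer_iff.mp hk.2 _ hv'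
        calc v * (n * k * n⁻¹) = n * ((n⁻¹ * v * n) * k) * n⁻¹ := by group
          _ = n * (k * (n⁻¹ * v * n)) * n⁻¹ := by rw [h2]
          _ = n * k * n⁻¹ * v := by group⟩
      have h3 : w * (n * k * n⁻¹) = (n * k * n⁻¹) * w := mem_centralizer_iff.mp h1.2 w hw
      have e : w * n * k * (w * n)⁻¹ = n * k * n⁻¹ := by
        calc w * n * k * (w * n)⁻¹ = w * (n * k * n⁻¹) * w⁻¹ := by group
          _ = n * k * n⁻¹ := by rw [h3]; group
      rw [e]; exact h1⟩
    have hKb : K = ⊥ := le_bot_iff.mp (hO ▸ Hall.le_pCore (hSp.to_le inf_le_left))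
    intro s hs hc
    exact (mem_bot).mp (hKb ▸ (⟨hs, mem_centralizer_iff.mpr fun w hw => (hc w hw).symm⟩ : s ∈ K))
  -- the centre `Z` of `S`
  set Z : Subgroup X := S ⊓ centralizer (S : Set X) with hZ
  have hZS : Z ≤ S := inf_le_left
  have hZc : ∀ z ∈ Z, ∀ s ∈ S, z * s = s * z := fun z hz s hs =>
    (mem_centralizer_iff.mp hz.2 s hs).symm
  have hnZ : ∀ n ∈ normalizer (S : Set X), ∀ z ∈ Z, n * z * n⁻¹ ∈ Z := fun n hn z hz =>
    ⟨hnS n hn z hz.1, mem_centralizer_iff.mpr fun s hs => by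
      have hs' : n⁻¹ * s * n ∈ S := by simpa using hnS n⁻¹ (inv_mem hn) s hs
      calc s * (n * z * n⁻¹) = n * ((n⁻¹ * s * n) * z) * n⁻¹ := by group
        _ = n * (z * (n⁻¹ * s * n)) * n⁻¹ := by rw [hZc z hz _ hs']
        _ = n * z * n⁻¹ * s := by group⟩
  have hconj : ∀ x : X, ∀ z ∈ Z, ∃ w ∈ V, ∃ z' ∈ Z, (z' = 1 → z = 1) ∧ x * z * x⁻¹ = w * z' := by
    intro x z hz
    obtain ⟨w, hw, n, hn, rfl⟩ := hX x
    set z' := n * z * n⁻¹ with hz'
    refine ⟨w * (z' * w⁻¹ * z'⁻¹), mul_mem hw (hVn.conj_mem _ (inv_mem hw) z'), z', hnZ n hn z hz,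
      fun e => conj_eq_one_iff.mp e, by simp only [hz']; group⟩
  have hcoZ : (Nat.card V).Coprime (Nat.card Z) := by
    obtain ⟨k, hk⟩ := (hSp.to_le hZS).exists_card_eq
    rw [hk]
    exact (hp.out.coprime_iff_not_dvd.mpr hVp).symm.pow_right k
  obtain ⟨l, hl⟩ := exists_linear_regular V hV Z (fun a ha b hb => hZc a ha b hb.1) hcoZ
    fun z hz => hfaith z hz.1
  have hvanY : ∀ y : X, (∃ k : ℕ, ∃ w ∈ V, ∃ z ∈ Z, z ≠ 1 ∧ y ^ k = w * z) → Van y := by
    rintro y ⟨k, w, hw, z, hz, hz1, hy⟩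
    refine exists_zero_of_outside_inertia V hV l fun g hg => hz1 ?_
    have hle : V ≤ inertia V (fun w : V => (l w : ℂ)) :=
      le_inertia V (isClassFunction_of_isIrr (isIrrCharacter_linear l))
    obtain ⟨w', hw', z', hz', h1, e⟩ := hconj g z hz
    refine h1 (hl z' hz' ?_)
    have h2 := pow_mem hg k
    rw [conj_pow, hy, show g * (w * z) * g⁻¹ = g * w * g⁻¹ * (g * z * g⁻¹) by group, e,
      ← mul_assoc] at h2
    exact (Subgroup.mul_mem_cancel_left _
      (hle (mul_mem (hVn.conj_mem w hw g) hw'))).mp h2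
  have hvanZ : ∀ z ∈ Z, z ≠ 1 → ∀ w ∈ V, Van (w * z) := fun z hz hz1 w hw =>
    hvanY _ ⟨1, w, hw, z, hz, hz1, pow_one _⟩
  -- `Z` is fixed-point-free and has order `p`
  have hfixZ : ∀ z ∈ Z, z ≠ 1 → ∀ w ∈ V, Commute w z → w = 1 := fun z hz hz1 w hw hc =>
    h.eq_one_of_commute hp.out (hSel z hz.1) hz1 (by simpa using hvanZ z hz hz1 1 V.one_mem)
      (hVord w hw) hc (hvanZ z hz hz1 w hw)
  have hZexp : ∀ z ∈ Z, z ^ p = 1 := fun z hz => by
    by_contra hne
    have hz1 : z ≠ 1 := fun e => hne (by simp [e])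
    exact hne (h.2 z (by simpa using hvanZ z hz hz1 1 V.one_mem)
      (by simpa using hvanZ _ (pow_mem hz p) hne 1 V.one_mem) (hSel z hz.1))
  have hSbot : S ≠ ⊥ := fun e => hK (by rw [← hSmap, e, Subgroup.map_bot])
  obtain ⟨b, hb, hb1⟩ : ∃ b ∈ Z, b ≠ 1 := by
    haveI : Nontrivial S := (nontrivial_iff_ne_bot S).mpr hSbot
    haveI := hSp.center_nontrivial
    obtain ⟨⟨c, hc⟩, hc1⟩ := exists_ne (1 : center S)
    exact ⟨c, ⟨c.2, mem_centralizer_iff.mpr fun s hs =>
      congrArg Subtype.val (mem_center_iff.mp hc ⟨s, hs⟩)⟩,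
      fun e => hc1 (Subtype.ext (Subtype.ext e))⟩
  have hobp : orderOf b = p := orderOf_eq_prime (hZexp b hb) hb1
  -- no rank two fixed-point-free group
  have rank2 : ∀ a ∈ S, a ^ p = 1 → a * b = b * a →
      (∀ j : ℕ, ∀ w ∈ V, Commute w (a * b ^ j) → w = 1) → False := by
    intro a ha hap hab hfa
    letI : CommGroup ↥V :=
      { (inferInstance : Group ↥V) with mul_comm := fun a b => Subtype.ext (hV a a.2 b b.2) }
    refine hVbot ((eq_bot_iff_forall V).mpr fun w hw => congrArg Subtype.val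
      (eq_one_of_rank_two_fpf (D := ↥V) hp.out.pos (hp.out.coprime_iff_not_dvd.mpr hVp).symm
        (MulAut.conjNormal a) (MulAut.conjNormal b)
        (Commute.map (show Commute a b from hab) MulAut.conjNormal) ?_ ?_ ?_ ?_ ⟨w, hw⟩))
    · rw [← map_pow, hap, map_one]
    · rw [← map_pow, hZexp b hb, map_one]
    · intro j d hd
      rw [← map_pow, ← map_mul] at hd
      exact Subtype.ext (hfa j d d.2 (conjNormal_apply_eq_self hd))
    · intro i hi hi0 d hd
      rw [← map_pow] at hd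
      refine Subtype.ext (hfixZ (b ^ i) (pow_mem hb i) (fun e => ?_) d d.2
        (conjNormal_apply_eq_self hd))
      have := Nat.le_of_dvd (Nat.pos_of_ne_zero hi0) (orderOf_dvd_of_pow_eq_one e)
      omega
  have hZb : ∀ z ∈ Z, z ∈ zpowers b := by
    intro a ha
    by_contra hab
    refine rank2 a ha.1 (hZexp a ha) (hZc a ha b hb.1) fun j w hw hc =>
      hfixZ _ (mul_mem ha (pow_mem hb j)) (fun e => hab ?_) w hw hc
    rw [eq_inv_of_mul_eq_one_left e]
    exact inv_mem (pow_mem (mem_zpowers b) j)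
  -- `S = Z`
  have hSZ : S ≤ Z := by
    by_contra hne
    set C := center ↥S with hC
    haveI : Nontrivial (↥S ⧸ C) := by
      rw [QuotientGroup.nontrivial_iff]
      intro e
      refine hne fun s hs => ⟨hs, mem_centralizer_iff.mpr fun t ht => ?_⟩
      have hmem : (⟨s, hs⟩ : S) ∈ C := by rw [e]; exact mem_top _
      exact congrArg Subtype.val (mem_center_iff.mp hmem ⟨t, ht⟩)
    have hQ : IsPGroup p (↥S ⧸ C) := hSp.to_quotient C
    haveI := hQ.center_nontrivial
    obtain ⟨n, hn⟩ := (hQ.to_subgroup (center (↥S ⧸ C))).exists_card_eq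
    have hdvd : p ∣ Nat.card (center (↥S ⧸ C)) := by
      rw [hn]
      refine dvd_pow_self p fun h0 => ?_
      rw [h0, pow_zero] at hn
      exact (Finite.one_lt_card (α := center (↥S ⧸ C))).ne' hn
    obtain ⟨⟨qx, hqc⟩, hqo⟩ := exists_prime_orderOf_dvd_card' p hdvd
    rw [Subgroup.orderOf_mk] at hqo
    obtain ⟨⟨x₀, hx₀⟩, rfl⟩ := QuotientGroup.mk_surjective qx
    have hCZ : ∀ t : S, t ∈ C → (t : X) ∈ Z := fun t ht => ⟨t.2, mem_centralizer_iff.mpr fun s hs =>
      congrArg Subtype.val (mem_center_iff.mp ht ⟨s, hs⟩)⟩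
    -- properties of an element of `S` outside `Z`, central modulo `Z`
    have main : ∀ x ∈ S, x ∉ Z → x ^ p ∈ Z → (∀ y ∈ S, y * x * y⁻¹ * x⁻¹ ∈ Z) →
        x ^ p = 1 ∧ ∀ w ∈ V, Commute w x → w = 1 := by
      intro x hx hxZ hxp hxc
      obtain ⟨y, hy, hyx⟩ : ∃ y ∈ S, y * x * y⁻¹ * x⁻¹ ≠ 1 := by
        by_contra hall
        push Not at hall
        refine hxZ ⟨hx, mem_centralizer_iff.mpr fun s hs => ?_⟩
        exact mul_inv_eq_iff_eq_mul.mp (mul_inv_eq_one.mp (hall s hs))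
      set z := y * x * y⁻¹ * x⁻¹ with hz
      have hzZ : z ∈ Z := hxc y hy
      have hzb : ∀ t ∈ Z, ∃ i : ℕ, z ^ i = t := fun t ht => by
        obtain ⟨i, hi⟩ := hZb z hzZ
        have hzgen : zpowers z = zpowers b := by
          refine Subgroup.eq_of_le_of_card_ge (zpowers_le.mpr (hZb z hzZ)) ?_
          rw [Nat.card_zpowers, Nat.card_zpowers, hobp, orderOf_eq_prime (hZexp z hzZ) hyx]
        obtain ⟨i, hi⟩ := (mem_powers_iff_mem_zpowers (x := z)).mpr
          (show t ∈ zpowers z from hzgen ▸ hZb t ht)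
        exact ⟨i, hi⟩
      have hyp : ∀ i : ℕ, π x * π z ^ i = π y ^ i * π x * (π y ^ i)⁻¹ := by
        intro i
        induction i with
        | zero => simp
        | succ i ih =>
          have e1 : y * (x * z ^ i) * y⁻¹ = x * z ^ (i + 1) := by
            have hzy : Commute y (z ^ i) := (hZc _ (pow_mem hzZ i) y hy).symm
            have hzx : Commute x z := (hZc z hzZ x hx).symm
            calc y * (x * z ^ i) * y⁻¹ = y * x * (z ^ i * y⁻¹) := by group
              _ = y * x * (y⁻¹ * z ^ i) := by rw [(hzy.symm.inv_right).eq]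
              _ = z * x * z ^ i := by rw [hz]; group
              _ = x * z * z ^ i := by rw [hzx.eq]
              _ = x * z ^ (i + 1) := by rw [pow_succ']; group
          have e2 := congrArg π e1
          simp only [map_mul, map_pow, map_inv] at e2
          rw [← e2, ih, pow_succ']
          group
      have hzbar : π z ≠ 1 := fun e => hyx (hinjS z hzZ.1 1 S.one_mem (by simpa using e))
      obtain ⟨χ, hχ⟩ : ∃ χ : IrrCharacter (X ⧸ V), (χ : X ⧸ V → ℂ) (π z) ≠ (χ : X ⧸ V → ℂ) 1 := by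
        by_contra hall
        push Not at hall
        exact hzbar (eq_one_of_forall_irr hall)
      have hvan : Van (π x) := by
        refine ⟨χ, ?_⟩
        haveI := Fintype.ofFinite (X ⧸ V)
        haveI hKn : (Z.map π).Normal := ⟨fun a ha g => by
          obtain ⟨t, ht, rfl⟩ := ha
          obtain ⟨g, rfl⟩ := QuotientGroup.mk'_surjective V g
          obtain ⟨w, hw, z', hz', -, e⟩ := hconj g t ht
          exact ⟨z', hz', by rw [← map_inv, ← map_mul, ← map_mul, e, map_mul, hkill w hw, one_mul]⟩⟩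
        refine apply_eq_zero_of_translates (isCharacter_of_isIrr χ.2) (Z.map π).subtype (π x)
          (fun a => ?_) ?_
        · obtain ⟨_, t, ht, rfl⟩ := a
          obtain ⟨i, rfl⟩ := hzb t ht
          show (χ : X ⧸ V → ℂ) (π (z ^ i) * π x) = _
          rw [← map_mul, hZc _ (pow_mem hzZ i) x hx, map_mul, map_pow, hyp i]
          exact isClassFunction_of_isIrr χ.2 _ _
        · intro inst
          exact sum_normal_eq_zero χ.2 (Z.map π) hKn (mem_map_of_mem π hzZ) hχ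
      have hvanx : ∀ w ∈ V, Van (w * x) := fun w hw => van_of_quotient V (by
        show Van (π (w * x))
        rwa [map_mul, hkill w hw, one_mul])
      have hvx : Van x := by simpa using hvanx 1 V.one_mem
      have hxp1 : x ^ p = 1 := by
        by_contra hne'
        exact hne' (h.2 x hvx (by simpa using hvanZ _ hxp hne' 1 V.one_mem) (hSel x hx))
      exact ⟨hxp1, fun w hw hc => h.eq_one_of_commute hp.out (hSel x hx)
        (fun e => hxZ (e ▸ Z.one_mem)) hvx (hVord w hw) hc (hvanx w hw)⟩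
    have hx0Z : x₀ ∉ Z := fun hz => by
      have : (⟨x₀, hx₀⟩ : S) ∈ C := mem_center_iff.mpr fun t => Subtype.ext (hZc x₀ hz t t.2).symm
      rw [(QuotientGroup.eq_one_iff _).mpr this, orderOf_one] at hqo
      exact hp.out.one_lt.ne hqo
    have hx0p : x₀ ^ p ∈ Z := by
      have := hqo ▸ pow_orderOf_eq_one (QuotientGroup.mk (⟨x₀, hx₀⟩ : S) : ↥S ⧸ C)
      rw [← QuotientGroup.mk_pow, QuotientGroup.eq_one_iff] at this
      exact hCZ _ this
    have hx0c : ∀ y ∈ S, y * x₀ * y⁻¹ * x₀⁻¹ ∈ Z := fun y hy => by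
      refine hCZ (⟨y, hy⟩ * ⟨x₀, hx₀⟩ * ⟨y, hy⟩⁻¹ * ⟨x₀, hx₀⟩⁻¹) ((QuotientGroup.eq_one_iff _).mp ?_)
      rw [QuotientGroup.mk_mul, QuotientGroup.mk_mul, QuotientGroup.mk_mul, QuotientGroup.mk_inv,
        QuotientGroup.mk_inv, mem_center_iff.mp hqc, mul_inv_cancel_right, mul_inv_cancel]
    obtain ⟨hx1, -⟩ := main x₀ hx₀ hx0Z hx0p hx0c
    refine rank2 x₀ hx₀ hx1 (hZc b hb x₀ hx₀).symm fun j w hw hc => ?_
    have hbj : b ^ j ∈ Z := pow_mem hb j
    refine (main (x₀ * b ^ j) (mul_mem hx₀ hbj.1) (fun hm => hx0Z ?_) ?_ fun y hy => ?_).2 w hw hc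
    · simpa using mul_mem hm (inv_mem hbj)
    · rw [(Commute.mul_pow (hZc _ hbj x₀ hx₀).symm), hx1, one_mul]
      exact pow_mem hbj p
    · have : y * (x₀ * b ^ j) * y⁻¹ * (x₀ * b ^ j)⁻¹ = y * x₀ * y⁻¹ * x₀⁻¹ := by
        calc y * (x₀ * b ^ j) * y⁻¹ * (x₀ * b ^ j)⁻¹
            = y * x₀ * (b ^ j * y⁻¹) * (b ^ j)⁻¹ * x₀⁻¹ := by group
          _ = y * x₀ * (y⁻¹ * b ^ j) * (b ^ j)⁻¹ * x₀⁻¹ := by rw [hZc _ hbj _ (inv_mem hy)]
          _ = y * x₀ * y⁻¹ * x₀⁻¹ := by group
      rw [this]; exact hx0c y hy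
  have hSb : S = zpowers b := le_antisymm (fun s hs => hZb s (hSZ hs)) (zpowers_le.mpr hb.1)
  have hScard : Nat.card S = p := by rw [hSb, Nat.card_zpowers, hobp]
  -- the centralizer of `b`
  set Cb := centralizer ({b} : Set X) with hCb
  have hCp : IsPGroup p Cb := by
    rintro ⟨y, hy⟩
    have hyb : Commute y b := mem_centralizer_singleton_iff.mp hy
    obtain ⟨m, hm, ⟨i, hi⟩, k, hkm⟩ := exists_decomp hp.out y
    refine ⟨k, Subtype.ext ?_⟩
    show y ^ p ^ k = 1
    have hc : Commute (y ^ p ^ k) b := hyb.pow_left _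
    have hwm : (y ^ p ^ k) ^ m = 1 := by rw [← pow_mul, ← hkm, pow_orderOf_eq_one]
    have hw : (orderOf (y ^ p ^ k)).Coprime p :=
      (hp.out.coprime_iff_not_dvd.mpr hm).symm.coprime_dvd_left (orderOf_dvd_of_pow_eq_one hwm)
    refine h.eq_one_of_commute hp.out (hSel b hb.1) hb1 (by simpa using hvanZ b hb hb1 1 V.one_mem)
      hw hc (hvanY _ ⟨m, 1, V.one_mem, b ^ m, pow_mem hb m, fun e => hm ?_, ?_⟩)
    · exact hobp ▸ orderOf_dvd_of_pow_eq_one e
    · rw [hc.mul_pow, hwm, one_mul]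
  haveI hCn : (Cb.map π).Normal := ⟨fun a ha g => by
    obtain ⟨c, hc, rfl⟩ := ha
    obtain ⟨g, rfl⟩ := QuotientGroup.mk'_surjective V g
    obtain ⟨w, hw, n, hn, rfl⟩ := hX g
    refine ⟨n * c * n⁻¹, ?_, by
      have h1 : π w = 1 := hkill w hw
      rw [← hπ]
      simp only [map_mul, map_inv, h1]; group⟩
    rw [SetLike.mem_coe, mem_centralizer_singleton_iff]
    have hnb : n⁻¹ * b * n ∈ zpowers b := by
      rw [← hSb]; simpa using hnS n⁻¹ (inv_mem hn) b hb.1
    obtain ⟨i, hi⟩ := hnb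
    have hcb : Commute c b := mem_centralizer_singleton_iff.mp hc
    have : Commute c (n⁻¹ * b * n) := hi ▸ hcb.zpow_right i
    calc n * c * n⁻¹ * b = n * (c * (n⁻¹ * b * n)) * n⁻¹ := by group
      _ = n * ((n⁻¹ * b * n) * c) * n⁻¹ := by rw [this.eq]
      _ = b * (n * c * n⁻¹) := by group⟩
  have hCM : Cb ≤ M := fun c hc =>
    (Hall.le_pCore (N := Cb.map π) (hCp.map π) (mem_map_of_mem π hc) : π c ∈ Cfsg.pCore p (X ⧸ V))
  -- conclusion
  obtain ⟨P, hSP⟩ := hSp.exists_le_sylow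
  have hPM : ∀ t ∈ (P : Subgroup X), t ∈ M → t ∈ S := fun t ht htM => by
    obtain ⟨w, hw, s, hs, rfl⟩ := hMdec t htM
    obtain ⟨k, hk⟩ := P.2 (⟨w, by simpa using mul_mem ht (inv_mem (hSP hs))⟩ : (P : Subgroup X))
    rw [hVel w hw ⟨k, congrArg Subtype.val hk⟩, one_mul]
    exact hs
  have hPC : (P : Subgroup X) ≤ Cb := by
    intro t ht
    have hn : t * b * t⁻¹ ∈ zpowers b := hSb ▸
      hPM _ (mul_mem (mul_mem ht (hSP hb.1)) (inv_mem ht)) (hMn.conj_mem b (hSM hb.1) t)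
    obtain ⟨k, hk⟩ := (mem_powers_iff_mem_zpowers (x := b)).mpr hn
    have hk : b ^ k = t * b * t⁻¹ := hk
    obtain ⟨a, ha⟩ := P.2 ⟨t, ht⟩
    have hpow : ∀ i : ℕ, b ^ k ^ i = t ^ i * b * (t ^ i)⁻¹ := by
      intro i
      induction i with
      | zero => simp
      | succ i ih =>
        rw [pow_succ, pow_mul, ih, conj_pow, hk, pow_succ]
        group
    have h1 := hpow (p ^ a)
    rw [show t ^ p ^ a = 1 from congrArg Subtype.val ha] at h1
    simp only [one_mul, inv_one, mul_one] at h1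
    have h2 : ((k : ZMod p)) = 1 := by
      have h3 : k ^ p ^ a ≡ 1 [MOD p] := by
        have := pow_eq_pow_iff_modEq.mp (h1.trans (pow_one b).symm)
        rwa [hobp] at this
      have := (ZMod.natCast_eq_natCast_iff _ _ _).mpr h3
      rwa [Nat.cast_pow, ZMod.pow_card_pow, Nat.cast_one] at this
    have h4 : b ^ k = b := by
      conv_rhs => rw [← pow_one b]
      rw [pow_eq_pow_iff_modEq, hobp, ← ZMod.natCast_eq_natCast_iff, Nat.cast_one, h2]
    rw [mem_centralizer_singleton_iff]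
    exact mul_inv_eq_iff_eq_mul.mp (hk ▸ h4)
  have hPS : (P : Subgroup X) = S := le_antisymm (fun t ht => hPM t ht (hCM (hPC ht))) hSP
  intro hd
  have hle := (hp.out.pow_dvd_iff_le_factorization Nat.card_pos.ne').mp hd
  have hPc := P.card_eq_multiplicity
  rw [hPS, hScard] at hPc
  have := Nat.pow_right_injective hp.out.two_le ((pow_one p).trans hPc)
  omega

/-- If `O_p(X) = 1`, the vanishing hypothesis bounds the `p`-part of `|X|` by `p`. -/
theorem sq_not_dvd {p : ℕ} [hp : Fact p.Prime] : ∀ (n : ℕ) (X : Type u) [Group X] [Finite X]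
    [Group.IsSolvable X], Nat.card X = n → Good p X → Cfsg.pCore p X = ⊥ → ¬ p ^ 2 ∣ Nat.card X := by
  intro n
  induction n using Nat.strong_induction_on with
  | _ n ih =>
    intro X _ _ _ hn h hO
    rcases subsingleton_or_nontrivial X with hs | hs
    · intro hd
      rw [Nat.card_unique, Nat.dvd_one, Nat.pow_eq_one] at hd
      exact hp.out.ne_one (hd.resolve_right (by norm_num))
    obtain ⟨V, hVn, hVbot, hV⟩ := exists_normal_commutative (X := X)
    haveI := hVn
    have hVp : ¬ p ∣ Nat.card V := by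
      intro hd
      obtain ⟨v, hv⟩ := exists_prime_orderOf_dvd_card' (G := V) p hd
      let W : Subgroup X :=
        { carrier := {x | x ∈ V ∧ x ^ p = 1}
          one_mem' := ⟨V.one_mem, one_pow p⟩
          mul_mem' := fun {a b} ha hb =>
            ⟨mul_mem ha.1 hb.1, by
              rw [Commute.mul_pow (hV a ha.1 b hb.1), ha.2, hb.2, one_mul]⟩
          inv_mem' := fun {a} ha => ⟨inv_mem ha.1, by rw [inv_pow, ha.2, inv_one]⟩ }
      haveI : W.Normal := ⟨fun a ha g => ⟨hVn.conj_mem a ha.1 g, by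
        rw [conj_pow, ha.2, mul_one, mul_inv_cancel]⟩⟩
      have hle : W ≤ Cfsg.pCore p X :=
        Hall.le_pCore fun a => ⟨1, Subtype.ext (by simpa using a.2.2)⟩
      rw [hO] at hle
      have : (v : X) = 1 := mem_bot.mp (hle ⟨v.2, by
        rw [← hv]; exact congrArg Subtype.val (pow_orderOf_eq_one v)⟩)
      rw [show v = 1 from Subtype.ext this, orderOf_one] at hv
      exact hp.out.one_lt.ne hv
    by_cases hK : Cfsg.pCore p (X ⧸ V) = ⊥
    · have hcard : Nat.card X = Nat.card (X ⧸ V) * Nat.card V :=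
        Subgroup.card_eq_card_quotient_mul_card_subgroup V
      have hlt : Nat.card (X ⧸ V) < n := by
        have : 1 < Nat.card V := (Subgroup.one_lt_card_iff_ne_bot V).mpr hVbot
        rw [← hn, hcard]
        exact lt_mul_of_one_lt_right Nat.card_pos this
      intro hd
      rw [hcard] at hd
      exact ih _ hlt (X ⧸ V) rfl (good_quotient hp.out V h) hK
        (((hp.out.coprime_iff_not_dvd.mpr hVp).pow_left 2).dvd_of_dvd_mul_right hd)
    · exact sq_not_dvd_of_core h hO V hVbot hV hVp hK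

theorem good_of_same_order {p : ℕ} [hp : Fact p.Prime] [Finite X]
    (H : ∀ a b : X, Van a → Van b → p ∣ orderOf a → p ∣ orderOf b → orderOf a = orderOf b) :
    Good p X := by
  have hdiv : ∀ a : X, IsPEl p a → a ≠ 1 → p ∣ orderOf a := by
    rintro a ⟨k, hk⟩ ha1
    obtain ⟨j, -, hj⟩ := (Nat.dvd_prime_pow hp.out).mp (orderOf_dvd_of_pow_eq_one hk)
    rw [hj]
    refine dvd_pow_self p fun h0 => ha1 ?_
    rw [← orderOf_eq_one_iff, hj, h0, pow_zero]
  refine ⟨fun a b ha hb hpa ha1 hdb => ?_, fun a ha hap hpa => ?_⟩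
  · obtain ⟨k, hk⟩ := hpa
    refine ⟨k, orderOf_dvd_iff_pow_eq_one.mp ?_⟩
    rw [← H a b ha hb (hdiv a ⟨k, hk⟩ ha1) hdb]
    exact orderOf_dvd_of_pow_eq_one hk
  · by_contra hne
    have ha1 : a ≠ 1 := fun e => hne (by simp [e])
    obtain ⟨k, hk⟩ := hpa
    have hd := hdiv a ⟨k, hk⟩ ha1
    have hpk : IsPEl p (a ^ p) := ⟨k, by rw [← pow_mul, mul_comm, pow_mul, hk, one_pow]⟩
    have heq := H a (a ^ p) ha hap hd (hdiv _ hpk hne)
    rw [orderOf_pow_of_dvd hp.out.ne_zero hd] at heq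
    exact (Nat.div_lt_self (orderOf_pos a) hp.out.one_lt).ne heq.symm

end Cfsg.Agent.Lib.Vanishing
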