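import Cfsg.Agent.Lib.Vanishing.SolvableSingular
import Cfsg.Agent.Lib.PLength.Basic
import Cfsg.Agent.Lib.GenStruct.Subnormalizer

/-!
# Sylow subgroups of solvable groups with one order of vanishing `p`-singular elements
-/

set_option autoImplicit false

open Subgroup

namespace Cfsg.Agent.Lib.Vanishing

universe u

variable {G : Type u} [Group G] [Finite G] [Group.IsSolvable G] {p : ℕ} [hp : Fact p.Prime]

theorem card_image_dvd
    (H : ∀ a b : G, Van a → Van b → p ∣ orderOf a → p ∣ orderOf b → orderOf a = orderOf b)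
    (P : Sylow p G) :
    Nat.card ((P : Subgroup G).map (QuotientGroup.mk' (Cfsg.pCore p G))) ∣ p := by
  haveI : (Cfsg.pCore p G).Normal := Hall.pCore_normal p
  have hsq := sq_not_dvd _ (G ⧸ Cfsg.pCore p G) rfl
    (good_quotient hp.out _ (good_of_same_order H)) PLength.pCore_quotient_pCore_eq_bot
  obtain ⟨k, hk⟩ := (P.2.map (QuotientGroup.mk' (Cfsg.pCore p G))).exists_card_eq
  rcases Nat.lt_or_ge k 2 with h | h
  · rw [hk]
    calc p ^ k ∣ p ^ 1 := pow_dvd_pow p (by omega)
      _ = p := pow_one p
  · exact absurd ((pow_dvd_pow p h).trans (hk ▸ card_subgroup_dvd_card _)) hsq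

theorem card_sylow_le
    (H : ∀ a b : G, Van a → Van b → p ∣ orderOf a → p ∣ orderOf b → orderOf a = orderOf b)
    (P : Sylow p G) : Nat.card (P : Subgroup G) ≤ p * Nat.card (Cfsg.pCore p G) := by
  haveI : (Cfsg.pCore p G).Normal := Hall.pCore_normal p
  set φ := (QuotientGroup.mk' (Cfsg.pCore p G)).subgroupMap (P : Subgroup G)
  have hc := φ.ker.card_eq_card_quotient_mul_card_subgroup
  rw [Nat.card_congr (QuotientGroup.quotientKerEquivOfSurjective φ
    ((QuotientGroup.mk' _).subgroupMap_surjective _)).toEquiv] at hc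
  rw [hc]
  refine Nat.mul_le_mul (Nat.le_of_dvd hp.out.pos (card_image_dvd H P)) ?_
  refine Nat.card_le_card_of_injective
    (fun x : φ.ker => (⟨((x : (P : Subgroup G)) : G), (QuotientGroup.eq_one_iff _).mp
      (congrArg Subtype.val x.2)⟩ : Cfsg.pCore p G)) fun a b h => ?_
  exact Subtype.ext (Subtype.ext (congrArg (fun z : Cfsg.pCore p G => (z : G)) h))

theorem isCyclic_image
    (H : ∀ a b : G, Van a → Van b → p ∣ orderOf a → p ∣ orderOf b → orderOf a = orderOf b)
    (P : Sylow p G) : IsCyclic ((P : Subgroup G).map (QuotientGroup.mk' (Cfsg.pCore p G))) := by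
  rcases (Nat.dvd_prime hp.out).mp (card_image_dvd H P) with h | h
  · have := (Nat.card_eq_one_iff_unique.mp h).1
    exact isCyclic_of_subsingleton
  · exact isCyclic_of_prime_card h

theorem commutator_sylow_subnormal
    (H : ∀ a b : G, Van a → Van b → p ∣ orderOf a → p ∣ orderOf b → orderOf a = orderOf b)
    (P : Sylow p G) :
    ((commutator ↥(P : Subgroup G)).map (P : Subgroup G).subtype).IsSubnormal := by
  haveI hN : (Cfsg.pCore p G).Normal := Hall.pCore_normal p
  set π := QuotientGroup.mk' (Cfsg.pCore p G)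
  have hle : (commutator ↥(P : Subgroup G)).map (P : Subgroup G).subtype ≤ Cfsg.pCore p G := by
    haveI := isCyclic_image H P
    letI : CommGroup ↥((P : Subgroup G).map π) := IsCyclic.commGroup
    rintro _ ⟨x, hx, rfl⟩
    have h1 : π.subgroupMap (P : Subgroup G) x = 1 :=
      MonoidHom.mem_ker.mp (Abelianization.commutator_subset_ker (π.subgroupMap _) hx)
    exact (QuotientGroup.eq_one_iff _).mp (congrArg Subtype.val h1)
  have hsub := GenStruct.Subnormalizer.isSubnormal_of_nilpotent
    (Nat.card (Cfsg.pCore p G)) (Cfsg.pCore p G) (Hall.isPGroup_pCore p).isNilpotent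
    (((commutator ↥(P : Subgroup G)).map (P : Subgroup G).subtype).subgroupOf (Cfsg.pCore p G))
    (Nat.le_add_left _ _)
  exact Subgroup.IsSubnormal.trans hle hsub hN.isSubnormal

end Cfsg.Agent.Lib.Vanishing
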