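import Cfsg.Agent.Lib.Char.Clifford
import Cfsg.Agent.Lib.Char.Kernel
import Cfsg.Agent.Lib.Char.Linear

/-!
# Tools to produce zeros of irreducible characters

* a trace criterion for a zero of a character;
* zeros outside the inertia group of a linear character of an abelian normal subgroup;
* a regular orbit of an abelian group acting coprimely and faithfully on an abelian group;
* a fixed-point-free elementary abelian group of rank two acts on the trivial group only.
-/

set_option autoImplicit false

open Module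

namespace Cfsg.Agent.Lib.Vanishing

open Cfsg.Agent.Lib.Char

universe u v

variable {G : Type u} [Group G]

/-- If `χ` is constant on the translates of `y` by a homomorphic image of a finite group `A` and
sums to zero over that image, then `χ y = 0`. -/
theorem apply_eq_zero_of_translates {A : Type v} [Group A] [Finite A] [Finite G] {χ : G → ℂ}
    (hχ : IsCharacter G χ) (f : A →* G) (y : G) (hconst : ∀ a, χ (f a * y) = χ y)
    (hsum : ∀ [Fintype A], ∑ a : A, χ (f a) = 0) : χ y = 0 := by
  obtain ⟨n, ρ, rfl⟩ := hχ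
  have := Fintype.ofFinite A
  set T : Module.End ℂ (Fin n → ℂ) := ∑ a : A, ρ (f a) with hT
  have hc : (Fintype.card A : ℂ) ≠ 0 := by exact_mod_cast Fintype.card_ne_zero
  have hTT : T * T = (Fintype.card A : ℂ) • T := by
    have e : ∀ a : A, ρ (f a) * T = T := fun a => by
      rw [hT, Finset.mul_sum]
      exact Fintype.sum_equiv (Equiv.mulLeft a) _ _ fun b => by simp
    conv_lhs => arg 1; rw [hT]
    rw [Finset.sum_mul, Finset.sum_congr rfl fun a _ => e a, Finset.sum_const, Finset.card_univ,
      Nat.cast_smul_eq_nsmul]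
  have htr : LinearMap.trace ℂ (Fin n → ℂ) T = 0 := by
    rw [hT, map_sum]; exact hsum
  have hidem : IsIdempotentElem ((Fintype.card A : ℂ)⁻¹ • T) := by
    unfold IsIdempotentElem
    rw [smul_mul_smul_comm, hTT, smul_smul]
    congr 1
    field_simp
  have h0 : (Fintype.card A : ℂ)⁻¹ • T = 0 :=
    LinearMap.IsIdempotentElem.eq_zero_of_trace_eq_zero hidem (by rw [map_smul, htr, smul_zero])
  have hT0 : T = 0 := (smul_eq_zero.mp h0).resolve_left (inv_ne_zero hc)
  have h2 : LinearMap.trace ℂ (Fin n → ℂ) (T * ρ y) = (Fintype.card A : ℂ) * ρ.character y := by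
    rw [hT, Finset.sum_mul, map_sum, ← Finset.card_univ, ← nsmul_eq_mul, ← Finset.sum_const]
    refine Finset.sum_congr rfl fun a _ => ?_
    rw [← map_mul]
    exact hconst a
  rw [hT0, zero_mul, map_zero] at h2
  exact (mul_eq_zero.mp h2.symm).resolve_left hc

/-- For an irreducible character, the sum over a normal subgroup not in the kernel is zero. -/
theorem sum_normal_eq_zero [Fintype G] {χ : G → ℂ} (hχ : IsIrrCharacter G χ) (K : Subgroup G)
    [Fintype K] (hK : K.Normal) {k : G} (hk : k ∈ K) (hk1 : χ k ≠ χ 1) : ∑ a : K, χ a = 0 := by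
  classical
  obtain ⟨n, ρ, hρ, rfl⟩ := hχ
  let f : G → ℂ := fun g => if g ∈ K then 1 else 0
  have hf : IsClassFunction G f := fun a b => by
    have : b * a * b⁻¹ ∈ K ↔ a ∈ K :=
      ⟨fun h => by simpa [mul_assoc] using hK.conj_mem _ h b⁻¹, fun h => hK.conj_mem _ h b⟩
    simp only [f, this]
  obtain ⟨c, hc, hc'⟩ := avgOp_irreducible ρ hf
  have hmul : avgOp ρ f * ρ k = avgOp ρ f := by
    simp only [avgOp, Finset.sum_mul, smul_mul_assoc, ← map_mul]
    refine Fintype.sum_equiv (Equiv.mulRight k) _ _ fun g => ?_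
    have : g * k ∈ K ↔ g ∈ K := K.mul_mem_cancel_right hk
    simp [f, this]
  have hc0 : c = 0 := by
    by_contra h
    rw [hc, smul_mul_assoc, one_mul] at hmul
    refine hk1 ?_
    simp only [Representation.character]
    rw [smul_right_injective (Module.End ℂ (Fin n → ℂ)) h hmul, map_one ρ]
  rw [hc0, zero_mul] at hc'
  have e : ∑ g : G, f g * ρ.character g = ∑ a : K, ρ.character a := by
    simp only [f, ite_mul, one_mul, zero_mul]
    rw [← Finset.sum_filter]
    exact Finset.sum_subtype (Finset.univ.filter (· ∈ K)) (by simp) _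
  rw [← e, ← hc']

/-- An element all whose conjugates lie outside the inertia group of a linear character of an
abelian normal subgroup is a zero of some irreducible character. -/
theorem exists_zero_of_outside_inertia [Finite G] (V : Subgroup G) [V.Normal]
    (hV : ∀ a ∈ V, ∀ b ∈ V, a * b = b * a) (l : ↥V →* ℂˣ) {y : G}
    (hy : ∀ g : G, g * y * g⁻¹ ∉ inertia V (fun w : V => (l w : ℂ))) :
    ∃ χ : IrrCharacter G, (χ : G → ℂ) y = 0 := by
  have := Fintype.ofFinite G
  have instV := Fintype.ofFinite V
  set θ : V → ℂ := fun w => (l w : ℂ) with hθ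
  have hθi : IsIrrCharacter V θ := isIrrCharacter_linear l
  obtain ⟨χ, hχ⟩ := exists_irr_over V hθi
  have hn : ∀ w : V, y * w * y⁻¹ ∈ V := fun w => (inferInstance : V.Normal).conj_mem _ w.2 y
  let f : V →* V :=
    MonoidHom.mk' (fun w => w * (⟨y * w * y⁻¹, hn w⟩ : V)⁻¹) (fun a b => by
      apply Subtype.ext
      push_cast
      have h1 : y * ((a : G) * b) * y⁻¹ = (y * a * y⁻¹) * (y * b * y⁻¹) := by group
      have h2 := hV _ b.2 _ (V.inv_mem (hn a))
      rw [h1, mul_inv_rev, hV (y * (b : G) * y⁻¹)⁻¹ (V.inv_mem (hn b)) _ (V.inv_mem (hn a))]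
      rw [show ((a : G) * b) * ((y * a * y⁻¹)⁻¹ * (y * b * y⁻¹)⁻¹) =
        a * (b * (y * a * y⁻¹)⁻¹) * (y * b * y⁻¹)⁻¹ by group, h2]
      group)
  refine ⟨χ, apply_eq_zero_of_translates (isCharacter_of_isIrr χ.2) (V.subtype.comp f) y
    (fun w => ?_) ?_⟩
  · have := isClassFunction_of_isIrr χ.2 y w
    rw [← this]
    congr 1
    simp [f, mul_assoc]
  · intro inst
    obtain rfl : inst = instV := Subsingleton.elim _ _
    have hcl := clifford V χ.2 hθi hχ
    have hval : ∀ w : V, (χ : G → ℂ) ((V.subtype.comp f) w) =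
        classInner (fun n : V => (χ : G → ℂ) n) θ * ∑ ψ ∈ orbit V θ, ψ (f w) := fun w => by
      have := congrFun hcl (f w)
      simpa [Finset.sum_apply] using this
    rw [Finset.sum_congr rfl fun w _ => hval w, ← Finset.mul_sum, Finset.sum_comm,
      Finset.sum_eq_zero, mul_zero]
    intro ψ hψ
    obtain ⟨g, rfl⟩ := (mem_orbit V).mp hψ
    let m : V →* ℂˣ := (l.comp (MulAut.conjNormal g).toMonoidHom).comp f
    have hm : ∀ w : V, conjChar V g θ (f w) = (m w : ℂ) := fun w => by
      rw [conjChar_eq_comp]; rfl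
    rw [Finset.sum_congr rfl fun w _ => hm w]
    have hm1 : m ≠ 1 := fun he => by
      refine hy g ?_
      rw [mem_inertia]
      have key : ∀ w : V, conjChar V (g * y) θ w = conjChar V g θ w := fun w => by
        have h1 : m w = 1 := by rw [he]; rfl
        simp only [m, f, MonoidHom.comp_apply, MonoidHom.mk'_apply, map_mul, map_inv,
          mul_inv_eq_one] at h1
        rw [conjChar_mul, conjChar_apply]
        simp only [conjChar_eq_comp, Function.comp_apply, hθ]
        exact_mod_cast congrArg Units.val h1.symm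
      rw [conjChar_mul, funext key, ← conjChar_mul, mul_inv_cancel, conjChar_one]
    let m' : V →* ℂ := (Units.coeHom ℂ).comp m
    have hm' : m' ≠ 1 := fun he => hm1 (MonoidHom.ext fun w => Units.ext (DFunLike.congr_fun he w))
    exact sum_hom_units_eq_zero m' hm'

/-- An abelian group acting faithfully and coprimely on a finite abelian group has a regular
orbit. -/
theorem exists_regular_point {A : Type v} [Group A] [Finite A] (hA : ∀ a b : A, a * b = b * a)
    {D : Type u} [CommGroup D] [Finite D] (hco : (Nat.card D).Coprime (Nat.card A))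
    (φ : A →* MulAut D) (hφ : Function.Injective φ) :
    ∃ d : D, ∀ a : A, φ a d = d → a = 1 := by
  classical
  let stab : D → Subgroup A := fun d =>
    { carrier := {a | φ a d = d}
      one_mem' := by simp
      mul_mem' := fun {a b} ha hb => by
        simp only [Set.mem_setOf_eq] at ha hb ⊢
        rw [map_mul, MulAut.mul_apply, hb, ha]
      inv_mem' := fun {a} ha => by
        simp only [Set.mem_setOf_eq] at ha ⊢
        rw [map_inv]
        conv_lhs => rw [← ha]
        exact (φ a).symm_apply_apply d }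
  obtain ⟨d, hd⟩ := Finite.exists_min fun d => Nat.card (stab d)
  refine ⟨d, fun z hz => ?_⟩
  by_contra hz1
  obtain ⟨u, hu⟩ : ∃ u : D, φ z u ≠ u := by
    by_contra h
    push Not at h
    exact hz1 (hφ (MulEquiv.ext fun x => by simp [h x]))
  set S := stab d with hS
  have := Fintype.ofFinite S
  let e : D →* D := MonoidHom.mk' (fun x => ∏ s : S, φ s x) fun a b => by
    simp [Finset.prod_mul_distrib]
  set w := u⁻¹ * φ z u with hw
  have hz' : z ∈ S := hz
  have he : ∀ x, e (φ z x) = e x := fun x =>
    Fintype.prod_equiv (Equiv.mulRight (⟨z, hz'⟩ : S)) _ _ fun s => by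
      simp [map_mul]
  have hew : e w = 1 := by rw [hw, map_mul, map_inv, he, inv_mul_cancel]
  have hcomm : ∀ a x, e (φ a x) = φ a (e x) := fun a x => by
    simp only [e, MonoidHom.mk'_apply, map_prod]
    refine Finset.prod_congr rfl fun s _ => ?_
    rw [← MulAut.mul_apply, ← map_mul, hA, map_mul, MulAut.mul_apply]
  have hfix : ∀ x, (∀ s ∈ S, φ s x = x) → e x = x ^ Nat.card S := fun x hx => by
    simp only [e, MonoidHom.mk'_apply, Finset.prod_congr rfl fun (s : S) _ => hx s s.2,
      Finset.prod_const, Finset.card_univ, Nat.card_eq_fintype_card]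
  have hcS : (Nat.card D).Coprime (Nat.card S) := hco.coprime_dvd_right S.card_subgroup_dvd_card
  have hinj : Function.Injective fun x : D => x ^ Nat.card S :=
    (powCoprime hcS).injective
  have hed : e d = d ^ Nat.card S := hfix d fun s hs => hs
  have hle : stab (d * w) ≤ S := fun a ha => by
    have h1 := congrArg e (show φ a (d * w) = d * w from ha)
    rw [hcomm, map_mul e d w, hew, mul_one, hed, map_pow] at h1
    exact hinj h1
  have hwfix : ∀ s ∈ S, φ s w = w := fun s hs => by
    have heq := Subgroup.eq_of_le_of_card_ge hle (hd (d * w))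
    have h1 : φ s (d * w) = d * w := (heq ▸ hs : s ∈ stab (d * w))
    rw [map_mul, (hs : φ s d = d)] at h1
    exact mul_left_cancel h1
  have hw1 : w = 1 := hinj (show w ^ Nat.card S = 1 ^ Nat.card S by
    rw [← hfix w hwfix, hew, one_pow])
  rw [hw, inv_mul_eq_one] at hw1
  exact hu hw1.symm

/-- A regular orbit on the linear characters of an abelian normal subgroup. -/
theorem exists_linear_regular [Finite G] (V : Subgroup G) [V.Normal]
    (hV : ∀ a ∈ V, ∀ b ∈ V, a * b = b * a) (Z : Subgroup G)
    (hZ : ∀ a ∈ Z, ∀ b ∈ Z, a * b = b * a) (hco : (Nat.card V).Coprime (Nat.card Z))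
    (hfaith : ∀ z ∈ Z, (∀ w ∈ V, z * w = w * z) → z = 1) :
    ∃ l : ↥V →* ℂˣ, ∀ z ∈ Z, z ∈ inertia V (fun w : V => (l w : ℂ)) → z = 1 := by
  letI : CommGroup ↥V :=
    { (inferInstance : Group ↥V) with mul_comm := fun a b => Subtype.ext (hV a a.2 b b.2) }
  have : NeZero (Monoid.exponent ↥V) := ⟨Monoid.exponent_ne_zero_of_finite⟩
  have : NeZero (Monoid.exponent ↥V : ℂ) := NeZero.charZero
  have hcard : Nat.card (↥V →* ℂˣ) = Nat.card ↥V :=
    CommGroup.card_monoidHom_of_hasEnoughRootsOfUnity ↥V ℂ
  have : Finite (↥V →* ℂˣ) := Nat.finite_of_card_ne_zero (hcard ▸ Nat.card_pos.ne')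
  let c : Z → MulAut ↥V := fun z => MulAut.conjNormal (z : G)
  let φ : Z →* MulAut (↥V →* ℂˣ) := MonoidHom.mk' (fun z =>
    { toFun := fun l => l.comp (c z⁻¹).toMonoidHom
      invFun := fun l => l.comp (c z).toMonoidHom
      left_inv := fun l => by ext w; simp [c, map_inv]
      right_inv := fun l => by ext w; simp [c, map_inv]
      map_mul' := fun l m => by ext w; simp })
    (fun a b => by ext l w; simp [c, mul_inv_rev, map_mul])
  have hinj : Function.Injective φ := by
    refine (injective_iff_map_eq_one φ).mpr fun z hz => ?_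
    have key : ∀ w : ↥V, c z⁻¹ w = w := fun w => by
      by_contra hne
      obtain ⟨l, hl⟩ := CommGroup.exists_apply_ne_one_of_hasEnoughRootsOfUnity ↥V ℂ
        (a := c z⁻¹ w * w⁻¹) (by simpa [mul_inv_eq_one] using hne)
      refine hl ?_
      rw [map_mul, map_inv, mul_inv_eq_one]
      exact DFunLike.congr_fun (DFunLike.congr_fun hz l) w
    refine Subtype.ext (hfaith z z.2 fun w hw => ?_)
    have h1 := congrArg Subtype.val (key ⟨w, hw⟩)
    simp only [c, MulAut.conjNormal_apply, Subgroup.coe_inv, inv_inv] at h1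
    rw [mul_assoc, inv_mul_eq_iff_eq_mul] at h1
    exact h1.symm
  obtain ⟨l, hl⟩ := exists_regular_point (fun a b : Z => Subtype.ext (hZ a a.2 b b.2))
    (hcard.symm ▸ hco) φ hinj
  refine ⟨l, fun z hz hi => ?_⟩
  have h1 : (⟨z, hz⟩ : Z)⁻¹ = 1 := by
    refine hl _ (MonoidHom.ext fun w => Units.ext ?_)
    have := congrFun hi w
    rw [conjChar_eq_comp] at this
    simpa [φ, c] using this
  exact congrArg Subtype.val (inv_eq_one.mp h1)

/-- An element of `p`-power one without fixed points has trivial orbit products. -/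
theorem prod_orbit_eq_one {D : Type u} [CommGroup D] {p : ℕ} (h : MulAut D) (hp : h ^ p = 1)
    (hfix : ∀ d, h d = d → d = 1) (d : D) : ∏ i ∈ Finset.range p, (h ^ i) d = 1 := by
  refine hfix _ ?_
  rw [map_prod]
  have e : ∀ i, h ((h ^ i) d) = (h ^ (i + 1)) d := fun i => by
    rw [pow_succ', MulAut.mul_apply]
  simp only [e]
  apply mul_right_cancel (b := (h ^ 0) d)
  rw [← Finset.prod_range_succ' (fun i => (h ^ i) d) p, Finset.prod_range_succ, hp]
  simp

/-- No elementary abelian group of rank two acts fixed-point-freely and coprimely. -/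
theorem eq_one_of_rank_two_fpf {D : Type u} [CommGroup D] {p : ℕ} (hp : 0 < p)
    (hco : (Nat.card D).Coprime p) (a b : MulAut D) (hab : Commute a b) (ha : a ^ p = 1)
    (hb : b ^ p = 1) (hfa : ∀ j, ∀ d, (a * b ^ j) d = d → d = 1)
    (hfb : ∀ i, i < p → i ≠ 0 → ∀ d, (b ^ i) d = d → d = 1) (d : D) : d = 1 := by
  have h1 : ∀ j, ∏ i ∈ Finset.range p, ((a * b ^ j) ^ i) d = 1 := fun j => by
    refine prod_orbit_eq_one _ ?_ (hfa j) d
    rw [(hab.pow_right j).mul_pow, ha, ← pow_mul, mul_comm, pow_mul, hb, one_pow, mul_one]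
  have h2 : ∏ i ∈ Finset.range p, (a ^ i) (∏ j ∈ Finset.range p, ((b ^ i) ^ j) d) = 1 := by
    rw [← Finset.prod_eq_one (f := fun j => ∏ i ∈ Finset.range p, ((a * b ^ j) ^ i) d)
      (s := Finset.range p) fun j _ => h1 j, Finset.prod_comm]
    refine Finset.prod_congr rfl fun i _ => ?_
    rw [map_prod]
    refine Finset.prod_congr rfl fun j _ => ?_
    rw [(hab.pow_right j).mul_pow, ← pow_mul, ← pow_mul, mul_comm i j, MulAut.mul_apply]
  have h3 : d ^ p = 1 := by
    rw [Finset.prod_eq_single_of_mem 0 (Finset.mem_range.mpr hp)] at h2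
    · simpa using h2
    · intro i hi hi0
      rw [prod_orbit_eq_one (b ^ i) (by rw [← pow_mul, mul_comm, pow_mul, hb, one_pow])
        (hfb i (Finset.mem_range.mp hi) hi0) d, map_one]
  exact (powCoprime hco).injective (show d ^ p = 1 ^ p by rw [h3, one_pow])

end Cfsg.Agent.Lib.Vanishing
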